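import Groth.Agent.AcycCompLib.Criterion
import Groth.Agent.BCVertLib.EtaleBCQ
import Groth.Agent.EtPtsLib.IntegralBCIso
import Groth.Agent.EtPtsLib.Immersion
import Groth.Agent.CdFieldLib.Basic
import Groth.Agent.ShriekProper.QFinite
import Groth.Agent.SmoothBCLib.Comp
import Groth.Agent.S6662

/-!
# Units and higher direct images of acyclic morphisms after quasi-finite base change
-/

set_option autoImplicit false
set_option backward.isDefEq.respectTransparency false
set_option backward.isDefEq.respectTransparency.types false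
set_option linter.style.haveILetI false
set_option linter.unusedSectionVars false
set_option maxHeartbeats 1000000

universe u

open CategoryTheory CategoryTheory.Limits AlgebraicGeometry Opposite ZeroObject
open Groth.Agent.BCVertLib Groth.Agent.GenBCLib

noncomputable section

namespace Groth.Agent.AcycFibLib

/-- The unit of `g` is an isomorphism on `L`-torsion sheaves and the higher direct images of their inverse images
vanish up to degree `n`. -/
def UnitVanish {X Y : Scheme.{u}} (g : X ⟶ Y) (L : Set ℕ) (n : ℕ) : Prop :=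
  ∀ F : EtCoh.Ab Y, EtAcyc.IsLTorsion L F → IsIso ((EtCoh.pullPushAdj g).unit.app F) ∧
    ∀ q : ℕ, 1 ≤ q → q ≤ n → IsZero ((EtCoh.Rpush g q).obj ((EtCoh.pull g).obj F))

/-- The converse of `ShriekProper.isZero_Rpush_comp_exact` for integral morphisms. -/
theorem isZero_of_comp_exact {A B C : Scheme.{u}} (φ : A ⟶ B) (π : B ⟶ C) [IsIntegralHom π] (G : EtCoh.Ab A) (q : ℕ)
    (h : IsZero ((EtCoh.Rpush (φ ≫ π) q).obj G)) : IsZero ((EtCoh.Rpush φ q).obj G) := by
  haveI := PBCLib.preservesFiniteColimits_push_integral π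
  haveI : (EtCoh.push π).IsRightAdjoint := (EtCoh.pullPushAdj π).isRightAdjoint
  haveI : PreservesFiniteLimits (EtCoh.push π) := inferInstance
  haveI : (EtCoh.push π).PreservesHomology := inferInstance
  let R := InjectiveResolution.of G
  let K := ((EtCoh.push φ).mapHomologicalComplex (ComplexShape.up ℕ)).obj R.cocomplex
  have h1 : IsZero ((((EtCoh.push π).mapHomologicalComplex (ComplexShape.up ℕ)).obj K).homology q) :=
    h.of_iso (((R.isoRightDerivedObj (EtCoh.push (φ ≫ π)) q) ≪≫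
      (HomologicalComplex.homologyFunctor _ _ q).mapIso
        ((NatIso.mapHomologicalComplex (EtCoh.pushComp π φ) (ComplexShape.up ℕ)).app R.cocomplex).symm).symm)
  have h2 : IsZero ((EtCoh.push π).obj (K.homology q)) :=
    h1.of_iso ((K.sc q).mapHomologyIso (EtCoh.push π)).symm
  have h3 : IsIso ((EtCoh.push π).map (0 : K.homology q ⟶ 0)) :=
    isIso_of_source_target_iso_zero _ h2.isoZero (Functor.map_isZero _ (isZero_zero _)).isoZero
  haveI := S6662.isIso_of_isIso_push_integral π (0 : K.homology q ⟶ 0) h3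
  exact ((isZero_zero _).of_iso (asIso (0 : K.homology q ⟶ 0))).of_iso (R.isoRightDerivedObj (EtCoh.push φ) q)

variable {X Y : Scheme.{u}} {g : X ⟶ Y} {L : Set ℕ} {n : ℕ}

theorem unitVanish_of_isAcyclicN (hg : EtAcyc.IsAcyclicN g L n) : UnitVanish g L n := fun F hF =>
  ⟨AcycCompLib.isIso_unit_of_Hpull g F fun W _ =>
      (hg W _ (AcycCompLib.isLTorsion_pull W.hom hF)).1 0 n.zero_le,
    AcycCompLib.isZero_Rpush_of_surjAt g n _ fun p _ hp =>
      AcycCompLib.surjAt_of_Hpull g F p fun W _ =>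
        ((hg W _ (AcycCompLib.isLTorsion_pull W.hom hF)).1 p hp).2⟩

theorem UnitVanish.compN (hg : UnitVanish g L n) : EtAcyc.CompN g L n := fun F hF _ =>
  ⟨fun q hq => (AcycCompLib.bijective_Hpull_of_unit g q F n (hg F hF).1 (hg F hF).2).1 hq,
    (AcycCompLib.bijective_Hpull_of_unit g (n + 1) F n (hg F hF).1 (hg F hF).2).2 le_rfl⟩

/-- Preserved by integral base change. -/
theorem UnitVanish.integral [QuasiCompact g] [QuasiSeparated g] (hg : UnitVanish g L n) {X₁ Y₁ : Scheme.{u}}
    (g₁ : X₁ ⟶ Y₁) (h' : X₁ ⟶ X) (h : Y₁ ⟶ Y) [IsIntegralHom h] (sq : IsPullback g₁ h' h g) :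
    UnitVanish g₁ L n := by
  intro F hF
  haveI : IsIntegralHom h' := MorphismProperty.of_isPullback (P := @IsIntegralHom) sq ‹_›
  haveI := PBCLib.preservesFiniteColimits_push_integral h
  haveI := PBCLib.preservesFiniteColimits_push_integral h'
  obtain ⟨hu, hR⟩ := hg ((EtCoh.push h).obj F) (CdFieldLib.isLTorsion_push h hF)
  haveI := hu
  haveI := EtPtsLib.isIso_baseChange0 h g h' g₁ sq F
  let bc := EtCoh.baseChange0 h g h' g₁ sq.w F
  refine ⟨S6662.isIso_of_isIso_push_integral h _ ?_, fun q hq1 hq => ?_⟩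
  · have e : (EtCoh.push h).map ((EtCoh.pullPushAdj g₁).unit.app F) ≫ (sqNat h g h' g₁ sq.w).hom.app _ =
        (EtCoh.pullPushAdj g).unit.app _ ≫ (EtCoh.push g).map bc :=
      (((EtCoh.pullPushAdj g).homEquiv_unit _ _ bc).symm.trans (Equiv.apply_symm_apply _ _)).symm
    rw [(Iso.comp_inv_eq ((sqNat h g h' g₁ sq.w).app ((EtCoh.pull g₁).obj F))).2 e.symm |>.symm]
    infer_instance
  · obtain ⟨q, rfl⟩ := Nat.exists_eq_succ_of_ne_zero (Nat.one_le_iff_ne_zero.1 hq1)
    obtain ⟨e⟩ := PBCLib.nonempty_Rpush_push_iso h' g ((EtCoh.pull g₁).obj F) (q + 1)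
    have h0 : IsZero ((EtCoh.Rpush (h' ≫ g) (q + 1)).obj ((EtCoh.pull g₁).obj F)) :=
      (((hR (q + 1) hq1 hq).of_iso ((EtCoh.Rpush g (q + 1)).mapIso (asIso bc)).symm).of_iso e.symm)
    rw [← sq.w] at h0
    exact isZero_of_comp_exact g₁ h _ _ h0

/-- Comparisons over a quasi-compact open. -/
theorem UnitVanish.openImmersion (hg : UnitVanish g L n) {U X₁ : Scheme.{u}} (j : U ⟶ Y) [IsOpenImmersion j]
    [QuasiCompact j] (g₁ : X₁ ⟶ U) (j' : X₁ ⟶ X) (sq : IsPullback j' g₁ g j) : UnitVanish g₁ L n := by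
  intro G hG
  haveI : IsOpenImmersion j' := MorphismProperty.of_isPullback (P := @IsOpenImmersion) sq.flip ‹_›
  haveI := EtPtsLib.isIso_counit_ab j (EtPtsLib.liftsLocally_of_isOpenImmersion j)
    (EtPtsLib.bcInducing_of_isImmersion j) G
  let F := (EtCoh.push j).obj G
  let c : (EtCoh.pull j).obj F ≅ G := asIso ((EtCoh.pullPushAdj j).counit.app G)
  obtain ⟨hu, hR⟩ := hg F (CdFieldLib.isLTorsion_push j hG)
  haveI := hu
  obtain ⟨σ, hσ⟩ := AcycCompLib.exists_pull_unit_baseChange0 g j g₁ j' sq.w F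
  haveI := isIso_baseChange0_etale g j g₁ j' sq ((EtCoh.pull g).obj F)
  haveI : IsIso ((EtCoh.pullPushAdj g₁).unit.app ((EtCoh.pull j).obj F)) := by
    haveI : IsIso ((EtCoh.pullPushAdj g₁).unit.app ((EtCoh.pull j).obj F) ≫ (EtCoh.push g₁).map σ.hom) := by
      rw [← hσ]
      infer_instance
    exact IsIso.of_isIso_comp_right _ ((EtCoh.push g₁).map σ.hom)
  refine ⟨?_, fun q hq1 hq => ?_⟩
  · have e := (EtCoh.pullPushAdj g₁).unit.naturality c.hom
    rw [Functor.id_map] at e
    rw [← (Iso.inv_comp_eq c).2 e.symm]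
    infer_instance
  haveI : PreservesFiniteLimits (EtCoh.pull j) := S0101.result j
  haveI : PreservesFiniteLimits (EtCoh.pull j') := S0101.result j'
  haveI := isIso_bcQ_etale g j g₁ j' sq q ((EtCoh.pull g).obj F)
  haveI : (EtCoh.pull j).Additive := (EtCoh.pullPushAdj j).left_adjoint_additive
  have h0 := (Functor.map_isZero (EtCoh.pull j) (hR q hq1 hq)).of_iso
    (asIso (EtBC.bcQ g j g₁ j' sq.w q ((EtCoh.pull g).obj F))).symm
  exact h0.of_iso ((EtCoh.Rpush g₁ q).mapIso ((EtCoh.pull g₁).mapIso c.symm ≪≫ σ))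

end Groth.Agent.AcycFibLib
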