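import Groth.Agent.CompBCLib.Via

/-!
# Comparison maps along short exact sequences
-/

set_option autoImplicit false
set_option backward.isDefEq.respectTransparency false
set_option backward.isDefEq.respectTransparency.types false
set_option linter.style.haveILetI false
set_option maxHeartbeats 1000000

universe u

open CategoryTheory CategoryTheory.Limits AlgebraicGeometry Opposite CategoryTheory.Abelian

noncomputable section

namespace Groth.Agent.AcycFibLib

variable {X Y : Scheme.{u}} (g : X ⟶ Y) [PreservesFiniteLimits (EtCoh.pull g)]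

theorem Hpull_comp_mk₀ {A B : EtCoh.Ab Y} (a : A ⟶ B) (q : ℕ) (z : EtCoh.H Y A q) :
    EtCore.Hpull g B q (z.comp (Ext.mk₀ a) (add_zero q)) =
      (EtCore.Hpull g A q z).comp (Ext.mk₀ ((EtCoh.pull g).map a)) (add_zero q) := by
  show (Ext.mk₀ (EtCore.pullConst g ℤ).inv).comp (Ext.mapExactFunctor _ (z.comp (Ext.mk₀ a) (add_zero q))) (zero_add q) = _
  rw [Ext.mapExactFunctor_comp, Ext.mapExactFunctor_mk₀]
  exact (Ext.comp_assoc_of_third_deg_zero (Ext.mk₀ (EtCore.pullConst g ℤ).inv) (Ext.mapExactFunctor (EtCoh.pull g) z)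
    (Ext.mk₀ ((EtCoh.pull g).map a)) (zero_add q)).symm

variable {S : ShortComplex (EtCoh.Ab Y)} (hS : S.ShortExact)

include hS in
theorem Hpull_comp_extClass (q : ℕ) (z : EtCoh.H Y S.X₃ q) :
    haveI : PreservesColimitsOfSize.{0, 0} (EtCoh.pull g) := (EtCoh.pullPushAdj g).leftAdjoint_preservesColimits
    haveI : PreservesFiniteColimits (EtCoh.pull g) := PreservesColimitsOfSize.preservesFiniteColimits _
    EtCore.Hpull g S.X₁ (q + 1) (z.comp hS.extClass rfl) =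
      (EtCore.Hpull g S.X₃ q z).comp (hS.map_of_exact (EtCoh.pull g)).extClass rfl := by
  show (Ext.mk₀ (EtCore.pullConst g ℤ).inv).comp (Ext.mapExactFunctor _ (z.comp hS.extClass rfl)) (zero_add (q + 1)) = _
  rw [Ext.mapExactFunctor_comp, Ext.mapExactFunctor_extClass]
  exact (Ext.comp_assoc _ _ _ (zero_add q) rfl (by omega)).symm

include hS in
theorem injective_Hpull_zero (hM : Function.Injective (EtCore.Hpull g S.X₂ 0)) :
    Function.Injective (EtCore.Hpull g S.X₁ 0) := by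
  refine (injective_iff_map_eq_zero _).2 fun x hx => ?_
  have h0 : x.comp (Ext.mk₀ S.f) (add_zero 0) = 0 := by
    apply hM
    rw [Hpull_comp_mk₀, hx, Ext.zero_comp, map_zero]
  haveI := hS.mono_f
  obtain ⟨b, rfl⟩ := (Ext.mk₀_bijective _ _).2 x
  rw [Ext.mk₀_comp_mk₀] at h0
  have h1 : b ≫ S.f = 0 := (Ext.mk₀_bijective _ _).1 (by rw [h0, Ext.mk₀_zero])
  rw [(cancel_mono S.f).1 (h1.trans zero_comp.symm), Ext.mk₀_zero]

include hS in
theorem injective_Hpull_succ (q : ℕ) (hMi : Function.Injective (EtCore.Hpull g S.X₂ (q + 1)))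
    (hMs : Function.Surjective (EtCore.Hpull g S.X₂ q)) (hC : Function.Injective (EtCore.Hpull g S.X₃ q)) :
    Function.Injective (EtCore.Hpull g S.X₁ (q + 1)) := by
  haveI : PreservesColimitsOfSize.{0, 0} (EtCoh.pull g) := (EtCoh.pullPushAdj g).leftAdjoint_preservesColimits
  haveI : PreservesFiniteColimits (EtCoh.pull g) := PreservesColimitsOfSize.preservesFiniteColimits _
  have hP := hS.map_of_exact (EtCoh.pull g)
  refine (injective_iff_map_eq_zero _).2 fun x hx => ?_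
  have h0 : x.comp (Ext.mk₀ S.f) (add_zero (q + 1)) = 0 := by
    apply hMi
    rw [Hpull_comp_mk₀, hx, Ext.zero_comp, map_zero]
  obtain ⟨z, rfl⟩ := Ext.covariant_sequence_exact₁ _ hS x h0 rfl
  rw [Hpull_comp_extClass g hS] at hx
  obtain ⟨w, hw⟩ := Ext.covariant_sequence_exact₃ _ hP _ rfl hx
  obtain ⟨w₀, rfl⟩ := hMs w
  have e : w₀.comp (Ext.mk₀ S.g) (add_zero q) = z := hC ((Hpull_comp_mk₀ g S.g q w₀).trans hw)
  rw [← e, Ext.comp_assoc_of_second_deg_zero, hS.comp_extClass, Ext.comp_zero]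

include hS in
theorem surjective_Hpull_zero (hM : Function.Surjective (EtCore.Hpull g S.X₂ 0))
    (hC : Function.Injective (EtCore.Hpull g S.X₃ 0)) : Function.Surjective (EtCore.Hpull g S.X₁ 0) := by
  haveI : PreservesColimitsOfSize.{0, 0} (EtCoh.pull g) := (EtCoh.pullPushAdj g).leftAdjoint_preservesColimits
  haveI : PreservesFiniteColimits (EtCoh.pull g) := PreservesColimitsOfSize.preservesFiniteColimits _
  have hP := hS.map_of_exact (EtCoh.pull g)
  intro ξ
  obtain ⟨η, hη⟩ := hM (ξ.comp (Ext.mk₀ (S.map (EtCoh.pull g)).f) (add_zero 0))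
  have h0 : η.comp (Ext.mk₀ S.g) (add_zero 0) = 0 := by
    apply hC
    rw [map_zero, Hpull_comp_mk₀, hη]
    show (ξ.comp (Ext.mk₀ (S.map (EtCoh.pull g)).f) _).comp (Ext.mk₀ (S.map (EtCoh.pull g)).g) _ = 0
    rw [Ext.comp_assoc_of_second_deg_zero, Ext.mk₀_comp_mk₀, (S.map (EtCoh.pull g)).zero, Ext.mk₀_zero, Ext.comp_zero]
  obtain ⟨η', rfl⟩ := Ext.covariant_sequence_exact₂ _ hS η h0
  refine ⟨η', ?_⟩
  haveI := hP.mono_f
  obtain ⟨a, ha⟩ := (Ext.mk₀_bijective _ _).2 (EtCore.Hpull g S.X₁ 0 η')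
  obtain ⟨b, rfl⟩ := (Ext.mk₀_bijective _ _).2 ξ
  rw [Hpull_comp_mk₀, ← ha] at hη
  rw [← ha]
  replace hη : (Ext.mk₀ a).comp (Ext.mk₀ (S.map (EtCoh.pull g)).f) (add_zero 0) =
    (Ext.mk₀ b).comp (Ext.mk₀ (S.map (EtCoh.pull g)).f) (add_zero 0) := hη
  rw [Ext.mk₀_comp_mk₀, Ext.mk₀_comp_mk₀] at hη
  rw [(cancel_mono (S.map (EtCoh.pull g)).f).1 ((Ext.mk₀_bijective _ _).1 hη)]

include hS in
theorem surjective_Hpull_succ (q : ℕ) (hMs : Function.Surjective (EtCore.Hpull g S.X₂ (q + 1)))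
    (hCi : Function.Injective (EtCore.Hpull g S.X₃ (q + 1))) (hCs : Function.Surjective (EtCore.Hpull g S.X₃ q)) :
    Function.Surjective (EtCore.Hpull g S.X₁ (q + 1)) := by
  haveI : PreservesColimitsOfSize.{0, 0} (EtCoh.pull g) := (EtCoh.pullPushAdj g).leftAdjoint_preservesColimits
  haveI : PreservesFiniteColimits (EtCoh.pull g) := PreservesColimitsOfSize.preservesFiniteColimits _
  have hP := hS.map_of_exact (EtCoh.pull g)
  intro ξ
  obtain ⟨η, hη⟩ := hMs (ξ.comp (Ext.mk₀ (S.map (EtCoh.pull g)).f) (add_zero _))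
  have h0 : η.comp (Ext.mk₀ S.g) (add_zero _) = 0 := by
    apply hCi
    rw [map_zero, Hpull_comp_mk₀, hη]
    show (ξ.comp (Ext.mk₀ (S.map (EtCoh.pull g)).f) _).comp (Ext.mk₀ (S.map (EtCoh.pull g)).g) _ = 0
    rw [Ext.comp_assoc_of_second_deg_zero, Ext.mk₀_comp_mk₀, (S.map (EtCoh.pull g)).zero, Ext.mk₀_zero, Ext.comp_zero]
  obtain ⟨η', rfl⟩ := Ext.covariant_sequence_exact₂ _ hS η h0
  have h1 : (ξ - EtCore.Hpull g S.X₁ (q + 1) η').comp (Ext.mk₀ (S.map (EtCoh.pull g)).f) (add_zero _) = 0 := by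
    rw [sub_eq_add_neg, Ext.add_comp, Ext.neg_comp, ← sub_eq_add_neg, sub_eq_zero]
    exact hη.symm.trans (Hpull_comp_mk₀ g S.f (q + 1) η')
  obtain ⟨z, hz⟩ := Ext.covariant_sequence_exact₁ _ hP _ h1 rfl
  obtain ⟨z', rfl⟩ := hCs z
  refine ⟨η' + z'.comp hS.extClass rfl, ?_⟩
  rw [map_add, ← eq_sub_iff_add_eq', ← hz]
  exact Hpull_comp_extClass g hS q z'

end Groth.Agent.AcycFibLib
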