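import Mathlib
import Groth.Agent.AICCover.Ring

/-!
# Unions of quasi-finite subalgebras
-/

set_option autoImplicit false
set_option backward.isDefEq.respectTransparency false
set_option backward.isDefEq.respectTransparency.types false
set_option linter.style.haveILetI false

universe u

open TensorProduct

noncomputable section

namespace Groth.Agent.AcycFibLib

variable (A : Type u) [CommRing A] (P : Type u) [CommRing P] [Algebra A P]

/-- A finitely generated quasi-finite subalgebra. -/
def IsQfSub (B : Subalgebra A P) : Prop := B.FG ∧ Algebra.QuasiFinite A B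

/-- Every element lies in a finitely generated quasi-finite subalgebra. -/
def IndQF : Prop := ∀ x : P, ∃ B, IsQfSub A P B ∧ x ∈ B

variable {A P}

theorem isQfSub_range {S : Type u} [CommRing S] [Algebra A S] [Algebra.FiniteType A S] [Algebra.QuasiFinite A S]
    (f : S →ₐ[A] P) : IsQfSub A P f.range := by
  refine ⟨(Subalgebra.fg_iff_finiteType _).2 (Algebra.FiniteType.of_surjective f.rangeRestrict f.rangeRestrict_surjective), ?_⟩
  exact Algebra.QuasiFinite.of_surjective_algHom f.rangeRestrict f.rangeRestrict_surjective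

theorem isQfSub_bot : IsQfSub A P (Algebra.ofId A P).range := isQfSub_range _

theorem IsQfSub.sup {B B' : Subalgebra A P} (h : IsQfSub A P B) (h' : IsQfSub A P B') : IsQfSub A P (B ⊔ B') := by
  refine ⟨h.1.sup h'.1, ?_⟩
  haveI := h.2
  haveI := h'.2
  haveI : Algebra.QuasiFinite A (B ⊗[A] B') := Algebra.QuasiFinite.trans A B _
  have e : (Algebra.TensorProduct.productMap B.val B'.val).range = B ⊔ B' := by
    rw [Algebra.TensorProduct.productMap_range, Subalgebra.range_val, Subalgebra.range_val]
  rw [← e]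
  exact Algebra.QuasiFinite.of_surjective_algHom _ (AlgHom.rangeRestrict_surjective _)

variable (A P) in
/-- The elements lying in quasi-finite subalgebras. -/
def qfClosure : Subalgebra A P where
  carrier := {x | ∃ B, IsQfSub A P B ∧ x ∈ B}
  mul_mem' := by
    rintro x y ⟨B, hB, hx⟩ ⟨B', hB', hy⟩
    exact ⟨_, hB.sup hB', mul_mem (Algebra.mem_sup_left hx) (Algebra.mem_sup_right hy)⟩
  add_mem' := by
    rintro x y ⟨B, hB, hx⟩ ⟨B', hB', hy⟩
    exact ⟨_, hB.sup hB', add_mem (Algebra.mem_sup_left hx) (Algebra.mem_sup_right hy)⟩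
  algebraMap_mem' a := ⟨_, isQfSub_bot, Subalgebra.algebraMap_mem _ a⟩

theorem le_qfClosure {B : Subalgebra A P} (hB : IsQfSub A P B) : B ≤ qfClosure A P := fun _ hx => ⟨B, hB, hx⟩

theorem indQF_qfClosure : IndQF A (qfClosure A P) := by
  rintro ⟨x, B, hB, hx⟩
  haveI := hB.2
  haveI : Algebra.FiniteType A B := (Subalgebra.fg_iff_finiteType B).1 hB.1
  exact ⟨_, isQfSub_range (Subalgebra.inclusion (le_qfClosure hB)), ⟨x, hx⟩, rfl⟩

theorem IndQF.of_surjective (h : IndQF A P) {Q : Type u} [CommRing Q] [Algebra A Q] (f : P →ₐ[A] Q)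
    (hf : Function.Surjective f) : IndQF A Q := fun y => by
  obtain ⟨x, rfl⟩ := hf y
  obtain ⟨B, hB, hx⟩ := h x
  haveI := hB.2
  haveI : Algebra.FiniteType A B := (Subalgebra.fg_iff_finiteType B).1 hB.1
  exact ⟨_, isQfSub_range (f.comp B.val), ⟨x, hx⟩, rfl⟩

theorem IndQF.baseChange (h : IndQF A P) (R : Type u) [CommRing R] [Algebra A R] : IndQF R (R ⊗[A] P) := fun z => by
  induction z using TensorProduct.induction_on with
  | zero => exact ⟨_, isQfSub_bot, zero_mem _⟩
  | tmul r x =>
    obtain ⟨B, hB, hx⟩ := h x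
    haveI := hB.2
    haveI : Algebra.FiniteType A B := (Subalgebra.fg_iff_finiteType B).1 hB.1
    exact ⟨_, isQfSub_range (Algebra.TensorProduct.map (AlgHom.id R R) B.val), r ⊗ₜ ⟨x, hx⟩, rfl⟩
  | add y y' hy hy' =>
    obtain ⟨B, hB, hy⟩ := hy
    obtain ⟨B', hB', hy'⟩ := hy'
    exact ⟨_, hB.sup hB', add_mem (Algebra.mem_sup_left hy) (Algebra.mem_sup_right hy')⟩

/-- A field which is a union of quasi-finite algebras is algebraic over every subfield containing the base. -/
theorem IndQF.isAlgebraic {Ω : Type u} [Field Ω] [Algebra A Ω] (h : IndQF A Ω) (k : Type u) [Field k] [Algebra A k]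
    [Algebra k Ω] [IsScalarTower A k Ω] : Algebra.IsAlgebraic k Ω := ⟨fun z => by
  obtain ⟨B, hB, hz⟩ := h z
  haveI := hB.2
  haveI : Module.Finite k (k ⊗[A] B) := .of_quasiFinite
  let φ : k ⊗[A] B →ₐ[k] Ω := Algebra.TensorProduct.lift (Algebra.ofId k Ω) B.val fun _ _ => .all _ _
  have h1 : IsIntegral k (φ (1 ⊗ₜ ⟨z, hz⟩)) := (Algebra.IsIntegral.isIntegral _).map φ
  have h2 : φ (1 ⊗ₜ ⟨z, hz⟩) = z := by simp [φ]
  rw [h2] at h1
  exact h1.isAlgebraic⟩

/-- Algebraic extensions of residue fields are unions of quasi-finite algebras. -/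
theorem indQF_of_algebraic {Ω : Type u} [Field Ω] [Algebra A Ω] (p : Ideal A) [p.IsPrime]
    [Algebra p.ResidueField Ω] [IsScalarTower A p.ResidueField Ω] [Algebra.IsAlgebraic p.ResidueField Ω] :
    IndQF A Ω := fun z => by
  letI : Algebra (A ⧸ p) Ω := ((algebraMap p.ResidueField Ω).comp (algebraMap (A ⧸ p) p.ResidueField)).toAlgebra
  haveI : IsScalarTower (A ⧸ p) p.ResidueField Ω := .of_algebraMap_eq fun _ => rfl
  haveI : IsScalarTower A (A ⧸ p) Ω := IsScalarTower.of_algebraMap_eq fun a => by
    show _ = algebraMap p.ResidueField Ω (algebraMap (A ⧸ p) p.ResidueField (algebraMap A (A ⧸ p) a))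
    rw [← IsScalarTower.algebraMap_apply A (A ⧸ p) p.ResidueField, ← IsScalarTower.algebraMap_apply A p.ResidueField Ω]
  have hz : IsAlgebraic (A ⧸ p) z :=
    (IsFractionRing.isAlgebraic_iff (A ⧸ p) p.ResidueField Ω).2 (Algebra.IsAlgebraic.isAlgebraic z)
  obtain ⟨y, hy, hyz⟩ := hz.exists_integral_multiple
  obtain ⟨a, rfl⟩ := Ideal.Quotient.mk_surjective y
  haveI : Algebra.IsIntegral A (A ⧸ p) := Algebra.IsIntegral.of_finite A _
  have hi : IsIntegral A (algebraMap A Ω a * z) := by
    have e : Ideal.Quotient.mk p a • z = algebraMap A Ω a * z := by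
      rw [Algebra.smul_def, IsScalarTower.algebraMap_apply A (A ⧸ p) Ω]
      rfl
    rw [← e]
    exact isIntegral_trans _ hyz
  let B : Subalgebra A Ω := Algebra.adjoin A {algebraMap A Ω a * z}
  haveI : Module.Finite A B := Algebra.finite_adjoin_simple_of_isIntegral hi
  let s : B := algebraMap A B a
  have ha : algebraMap A Ω a ≠ 0 := by
    rw [IsScalarTower.algebraMap_apply A (A ⧸ p) Ω,
      IsScalarTower.algebraMap_apply (A ⧸ p) p.ResidueField Ω]
    exact (map_ne_zero _).2 fun h0 => hy (IsFractionRing.injective (A ⧸ p) p.ResidueField (h0.trans (map_zero _).symm))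
  have hu : IsUnit (B.val s) := isUnit_iff_ne_zero.2 ha
  haveI : Algebra.QuasiFinite A (Localization.Away s) := .of_isLocalization (Submonoid.powers s)
  haveI : Algebra.FiniteType B (Localization.Away s) := IsLocalization.finiteType_of_monoid_fg (Submonoid.powers s) _
  haveI : Algebra.FiniteType A (Localization.Away s) := Algebra.FiniteType.trans (R := A) (S := B) inferInstance inferInstance
  let f : Localization.Away s →ₐ[A] Ω := IsLocalization.liftAlgHom (M := Submonoid.powers s) (f := B.val)
    (by rintro ⟨_, m, rfl⟩; rw [map_pow]; exact hu.pow m)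
  refine ⟨_, isQfSub_range f, ?_⟩
  refine ⟨IsLocalization.mk' _ (⟨_, Algebra.self_mem_adjoin_singleton A _⟩ : B) (⟨s, Submonoid.mem_powers s⟩ : Submonoid.powers s), ?_⟩
  show IsLocalization.lift _ _ = z
  rw [IsLocalization.lift_mk'_spec]
  rfl

theorem quasiFinite_prod (A B B' : Type u) [CommRing A] [CommRing B] [CommRing B'] [Algebra A B] [Algebra A B']
    [Algebra.QuasiFinite A B] [Algebra.QuasiFinite A B'] : Algebra.QuasiFinite A (B × B') :=
  ⟨fun Q _ => .of_surjective (Algebra.TensorProduct.prodRight A Q.ResidueField Q.ResidueField B B').symm.toLinearMap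
    (Algebra.TensorProduct.prodRight A Q.ResidueField Q.ResidueField B B').symm.surjective⟩

section Pi

variable {ι : Type u} (K : ι → Type u) [∀ i, Field (K i)] [∀ i, Algebra A (K i)]

/-- Quasi-finite subalgebras of a product of fields absorb pseudo-inverses. -/
theorem exists_qfSub_pinv {B : Subalgebra A (∀ i, K i)} (hB : IsQfSub A _ B) {a b : ∀ i, K i} (ha : a ∈ B)
    (hb : a * (a * b) = a) (hb' : b * (b * a) = b) : ∃ B', IsQfSub A _ B' ∧ b ∈ B' := by
  haveI := hB.2
  haveI : Algebra.FiniteType A B := (Subalgebra.fg_iff_finiteType B).1 hB.1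
  have he : a * b * (a * b) = a * b := by linear_combination b * hb
  let f : B × B →ₐ[A] (∀ i, K i) :=
    { toFun := fun x => a * b * x.1 + (1 - a * b) * x.2
      map_one' := by simp
      map_mul' := fun x y => by
        simp only [Prod.fst_mul, Prod.snd_mul, MulMemClass.coe_mul]
        linear_combination (-((x.1 : ∀ i, K i) * y.1) + x.1 * y.2 + x.2 * y.1 - x.2 * y.2) * he
      map_zero' := by simp
      map_add' := fun x y => by simp only [Prod.fst_add, Prod.snd_add, AddMemClass.coe_add]; ring
      commutes' := fun r => by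
        show a * b * algebraMap A _ r + (1 - a * b) * algebraMap A _ r = _
        ring }
  let s : B × B := (⟨a, ha⟩, 1)
  have hu : IsUnit (f s) := ⟨⟨f s, b + (1 - a * b), by
      show (a * b * a + (1 - a * b) * 1) * _ = 1
      linear_combination (2 - a) * he - hb', by
      show (b + (1 - a * b)) * (a * b * a + (1 - a * b) * 1) = 1
      linear_combination (2 - a) * he - hb'⟩, rfl⟩
  haveI : Algebra.QuasiFinite A (B × B) := quasiFinite_prod A B B
  haveI : Algebra.QuasiFinite A (Localization.Away s) := .of_isLocalization (Submonoid.powers s)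
  haveI : Algebra.FiniteType (B × B) (Localization.Away s) := @IsLocalization.finiteType_of_monoid_fg (B × B) _ (Submonoid.powers s) (Localization.Away s) _ _ _ inferInstance
  haveI : Algebra.FiniteType A (Localization.Away s) :=
    Algebra.FiniteType.trans (R := A) (S := B × B) inferInstance inferInstance
  let g : Localization.Away s →ₐ[A] (∀ i, K i) := IsLocalization.liftAlgHom (M := Submonoid.powers s) (f := f)
    (by rintro ⟨_, m, rfl⟩; rw [map_pow]; exact hu.pow m)
  refine ⟨_, isQfSub_range (S := Localization.Away s) g, IsLocalization.mk' _ ((1, 0) : B × B) (⟨s, Submonoid.mem_powers s⟩ : Submonoid.powers s), ?_⟩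
  show IsLocalization.lift _ _ = b
  rw [IsLocalization.lift_mk'_spec]
  show a * b * 1 + (1 - a * b) * 0 = (a * b * a + (1 - a * b) * 1) * b
  linear_combination hb' - b * hb

/-- The union of the quasi-finite subalgebras has pseudo-inverses. -/
theorem exists_mul_mul_eq_qfClosure (x : qfClosure A (∀ i, K i)) : ∃ y, x * (x * y) = x := by
  obtain ⟨x, B, hB, hx⟩ := x
  classical
  let b : ∀ i, K i := fun i => (x i)⁻¹
  have hb : x * (x * b) = x := funext fun i => by
    by_cases h : x i = 0 <;> simp [b, h]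
  have hb' : b * (b * x) = b := funext fun i => by
    by_cases h : x i = 0 <;> simp [b, h]
  obtain ⟨B', hB', hbB⟩ := exists_qfSub_pinv K hB hx hb hb'
  exact ⟨⟨b, B', hB', hbB⟩, Subtype.ext hb⟩

/-- The union of the quasi-finite subalgebras has roots of monic polynomials. -/
theorem monicRoot_qfClosure [∀ i, IsAlgClosed (K i)] : AICCover.MonicRoot (qfClosure A (∀ i, K i)) := by
  intro p hp hd
  classical
  let q := p.map (qfClosure A (∀ i, K i)).val.toRingHom
  have hq : ∀ i, ∃ r : K i, (q.map (Pi.evalRingHom K i)).eval r = 0 := fun i => IsAlgClosed.exists_root _ (by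
    rw [Polynomial.map_map, Polynomial.degree_eq_natDegree (hp.map _).ne_zero, hp.natDegree_map, Ne,
      Nat.cast_eq_zero]
    omega)
  choose r hr using hq
  have hr0 : q.eval r = 0 := funext fun i => by
    have := Polynomial.hom_eval₂ q (RingHom.id _) (Pi.evalRingHom K i) r
    rw [RingHom.comp_id, ← Polynomial.eval_map] at this
    simp only [Polynomial.eval_map] at this hr ⊢
    exact this.trans (hr i)
  have hc : ∀ n, ∃ B, IsQfSub A (∀ i, K i) B ∧ q.coeff n ∈ B := fun n => by
    rw [Polynomial.coeff_map]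
    exact (p.coeff n).2
  choose B hB hcB using hc
  let B₀ : Subalgebra A (∀ i, K i) := (Finset.range (q.natDegree + 1)).sup' ⟨0, by simp⟩ B
  have hB₀ : IsQfSub A _ B₀ := Finset.sup'_induction _ _ (fun _ h _ h' => h.sup h') fun n _ => hB n
  have hmem : ∀ n, q.coeff n ∈ B₀ := fun n => by
    by_cases h : n ≤ q.natDegree
    · exact Finset.le_sup' B (Finset.mem_range.2 (Nat.lt_succ_of_le h)) (hcB n)
    · rw [Polynomial.coeff_eq_zero_of_natDegree_lt (not_le.1 h)]
      exact zero_mem _
  have hlift : q ∈ Polynomial.lifts (algebraMap B₀ (∀ i, K i)) :=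
    (Polynomial.lifts_iff_coeff_lifts q).2 fun n => ⟨⟨_, hmem n⟩, rfl⟩
  obtain ⟨q₀, hq₀, -, hq₀m⟩ := Polynomial.lifts_and_natDegree_eq_and_monic hlift (hp.map _)
  have hint : IsIntegral B₀ r := ⟨q₀, hq₀m, by rw [← Polynomial.eval_map, hq₀, hr0]⟩
  haveI := hB₀.2
  haveI : Algebra.FiniteType A B₀ := (Subalgebra.fg_iff_finiteType B₀).1 hB₀.1
  let T : Subalgebra B₀ (∀ i, K i) := Algebra.adjoin B₀ {r}
  haveI : Module.Finite B₀ T := Algebra.finite_adjoin_simple_of_isIntegral hint
  haveI : Algebra.QuasiFinite A T := Algebra.QuasiFinite.trans A B₀ T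
  haveI : Algebra.FiniteType A T := Algebra.FiniteType.trans (R := A) (S := B₀) inferInstance inferInstance
  haveI : Algebra.FiniteType A (T.restrictScalars A) := ‹Algebra.FiniteType A T›
  haveI : Algebra.QuasiFinite A (T.restrictScalars A) := ‹Algebra.QuasiFinite A T›
  refine ⟨⟨r, _, isQfSub_range (T.restrictScalars A).val, ⟨r, Algebra.self_mem_adjoin_singleton B₀ r⟩, rfl⟩, ?_⟩
  refine Subtype.ext ?_
  show ((p.eval _ : qfClosure A (∀ i, K i)) : ∀ i, K i) = 0
  rw [← hr0, ← Polynomial.eval₂_id, show ((p.eval₂ (RingHom.id _) _ : qfClosure A (∀ i, K i)) : ∀ i, K i) = _ from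
    Polynomial.hom_eval₂ p (RingHom.id _) (qfClosure A (∀ i, K i)).val.toRingHom _, RingHom.comp_id]
  exact (Polynomial.eval_map _ _).symm

end Pi

end Groth.Agent.AcycFibLib
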