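import Groth.Agent.AcycFibLib.Via
import Groth.Agent.AcycFibLib.Base
import Groth.Agent.AcycFibLib.QfAlg
import Groth.Agent.SmoothBCLib.Limit
import Mathlib.AlgebraicGeometry.ZariskisMainTheorem

/-!
# Acyclic morphisms after base change to a union of quasi-finite algebras
-/

set_option autoImplicit false
set_option backward.isDefEq.respectTransparency false
set_option backward.isDefEq.respectTransparency.types false
set_option linter.style.haveILetI false
set_option linter.unusedSectionVars false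
set_option maxHeartbeats 1000000

universe u

open CategoryTheory CategoryTheory.Limits AlgebraicGeometry Opposite
open Groth.Agent.EtLimLib

attribute [local instance] Groth.Agent.S0101.result

noncomputable section

namespace Groth.Agent.AcycFibLib

theorem UnitVanish.qf {X Y : Scheme.{u}} {g : X ⟶ Y} [QuasiCompact g] [QuasiSeparated g] {L : Set ℕ} {n : ℕ}
    (hg : UnitVanish g L n) {U : Scheme.{u}} (σ : U ⟶ Y) [LocallyQuasiFinite σ] [LocallyOfFiniteType σ]
    [IsSeparated σ] [QuasiCompact σ] : UnitVanish (pullback.snd g σ) L n := by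
  let g' := pullback.snd g σ.fromNormalization
  have h1 : UnitVanish g' L n :=
    hg.integral g' (pullback.fst g σ.fromNormalization) σ.fromNormalization (IsPullback.of_hasPullback g σ.fromNormalization).flip
  let k : pullback g σ ⟶ pullback g σ.fromNormalization :=
    pullback.map g σ g σ.fromNormalization (𝟙 _) σ.toNormalization (𝟙 _) (by simp) (by simp)
  have sq : IsPullback k (pullback.snd g σ) g' σ.toNormalization :=
    IsPullback.of_right (h₁₂ := pullback.fst g σ.fromNormalization) (v₁₃ := g) (h₂₂ := σ.fromNormalization)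
      (by simpa [k] using IsPullback.of_hasPullback g σ) (by simp [k, g'])
      (IsPullback.of_hasPullback g σ.fromNormalization)
  exact h1.openImmersion σ.toNormalization (pullback.snd g σ) k sq

section Stages

variable {ι : Type u} [Preorder ι] [IsDirected ι (· ≤ ·)] [Nonempty ι] {A : Scheme.{u}} {S₀ S₁ : Sys ι}
  (O₀ : OverSys.Over S₀ A) (π : S₁.c.pt ⟶ S₀.c.pt) (p : ∀ i, S₁.X i ⟶ S₀.X i)
  (hu : ∀ i, S₁.u i ≫ p i = π ≫ S₀.u i)
  (hp : ∀ ⦃i j : ι⦄ (a : i ≤ j), S₁.t a ≫ p i = p j ≫ S₀.t a)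

include hu hp

theorem stages_Hpull (F : EtCoh.Ab A) (q : ℕ) :
    ((∀ i, Function.Injective (EtCore.Hpull (p i) ((EtCoh.pull (O₀.q i)).obj F) q)) →
        Function.Injective (EtCore.Hpull π ((EtCoh.pull O₀.g).obj F) q)) ∧
      ((∀ i, Function.Surjective (EtCore.Hpull (p i) ((EtCoh.pull (O₀.q i)).obj F) q)) →
        Function.Surjective (EtCore.Hpull π ((EtCoh.pull O₀.g).obj F) q)) := by
  let O₁ : OverSys.Over S₁ A :=
    { q := fun i => p i ≫ O₀.q i
      g := π ≫ O₀.g
      hq := fun i j a => by rw [← Category.assoc, hp a, Category.assoc, O₀.hq]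
      hg := fun i => by rw [← Category.assoc, hu i, Category.assoc, O₀.hg] }
  obtain ⟨hs₀, hi₀⟩ := over_continuity O₀ F q
  obtain ⟨hs₁, hi₁⟩ := over_continuity O₁ F q
  have comm : ∀ (i : ι) (x : EtCoh.H (S₀.X i) ((EtCoh.pull (O₀.q i)).obj F) q),
      EtCore.HpullVia (S₁.u i) (O₁.q i) O₁.g (O₁.hg i) F q
        (EtCore.HpullVia (p i) (O₀.q i) (O₁.q i) rfl F q x) =
      EtCore.HpullVia π O₀.g O₁.g rfl F q (EtCore.HpullVia (S₀.u i) (O₀.q i) O₀.g (O₀.hg i) F q x) := fun i x => by
    have w : (π ≫ S₀.u i) ≫ O₀.q i = O₁.g := by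
      rw [Category.assoc, O₀.hg]
    exact (HpullVia_comp (O₀.q i) (p i) (S₁.u i) (O₁.q i) rfl _ (hu i) O₁.g w (O₁.hg i) F q x).trans
      (HpullVia_comp (O₀.q i) (S₀.u i) π O₀.g (O₀.hg i) _ rfl O₁.g w rfl F q x).symm
  refine ⟨fun hi => (injective_HpullVia_iff π O₀.g O₁.g rfl F q).1 ((injective_iff_map_eq_zero _).2 fun ξ hξ => ?_),
    fun hs => (surjective_HpullVia_iff π O₀.g O₁.g rfl F q).1 fun ζ => ?_⟩
  · obtain ⟨i, x, rfl⟩ := hs₀ ξ
    obtain ⟨j, a, hj⟩ := hi₁ i _ ((comm i x).trans hξ)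
    have w : (p j ≫ S₀.t a) ≫ O₀.q i = O₁.q j := by
      rw [Category.assoc, O₀.hq]
    have h0 : EtCore.HpullVia (p j) (O₀.q j) (O₁.q j) rfl F q
        (EtCore.HpullVia (S₀.t a) (O₀.q i) (O₀.q j) (O₀.hq a) F q x) = 0 :=
      ((HpullVia_comp (O₀.q i) (S₀.t a) (p j) (O₀.q j) (O₀.hq a) _ rfl (O₁.q j) w rfl F q x).trans
        (HpullVia_comp (O₀.q i) (p i) (S₁.t a) (O₁.q i) rfl _ (hp a) (O₁.q j) w (O₁.hq a) F q x).symm).trans hj
    have h1 := (injective_iff_map_eq_zero _).1
      ((injective_HpullVia_iff (p j) (O₀.q j) (O₁.q j) rfl F q).2 (hi j)) _ h0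
    have e := HpullVia_comp (O₀.q i) (S₀.t a) (S₀.u j) (O₀.q j) (O₀.hq a) (S₀.u i) (S₀.u_t a) O₀.g (O₀.hg i)
      (O₀.hg j) F q x
    rw [h1, map_zero] at e
    exact e.symm
  · obtain ⟨i, y, rfl⟩ := hs₁ ζ
    obtain ⟨x, rfl⟩ := (surjective_HpullVia_iff (p i) (O₀.q i) (O₁.q i) rfl F q).2 (hs i) y
    exact ⟨_, (comm i x).symm⟩

end Stages

variable {R P : Type u} [CommRing R] [CommRing P] [Algebra R P]

/-- The index of the quasi-finite stages. -/
abbrev QfIdx (R P : Type u) [CommRing R] [CommRing P] [Algebra R P] : Type u := {B : Subalgebra R P // IsQfSub R P B}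

instance : Nonempty (QfIdx R P) := ⟨⟨_, isQfSub_bot⟩⟩

instance : IsDirected (QfIdx R P) (· ≤ ·) :=
  ⟨fun a b => ⟨⟨a.1 ⊔ b.1, a.2.sup b.2⟩, (le_sup_left : a.1 ≤ a.1 ⊔ b.1), (le_sup_right : b.1 ≤ a.1 ⊔ b.1)⟩⟩

/-- The diagram of the quasi-finite stages. -/
def qfDiag : QfIdx R P ⥤ CommRingCat.{u} where
  obj B := CommRingCat.of B.1
  map {a b} h := CommRingCat.ofHom (Subalgebra.inclusion (leOfHom h)).toRingHom
  map_id _ := rfl
  map_comp _ _ := rfl

/-- Its cocone. -/
def qfCocone : Cocone (qfDiag (R := R) (P := P)) where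
  pt := CommRingCat.of P
  ι := { app := fun B => CommRingCat.ofHom B.1.val.toRingHom, naturality := fun _ _ _ => rfl }

theorem exists_isColimit_qfCocone (hP : IndQF R P) : Nonempty (IsColimit (qfCocone (R := R) (P := P))) := by
  haveI : PreservesColimit (qfDiag (R := R) (P := P)) (forget CommRingCat.{u}) := inferInstance
  haveI : ReflectsColimit (qfDiag (R := R) (P := P)) (forget CommRingCat.{u}) :=
    reflectsColimit_of_reflectsIsomorphisms _ _
  refine ⟨isColimitOfReflects (forget CommRingCat.{u}) (Types.FilteredColimit.isColimitOf' _ _ (fun x => ?_)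
    fun i x y e => ⟨i, 𝟙 i, congrArg _ (Subtype.ext e)⟩)⟩
  obtain ⟨B, hB, hx⟩ := hP x
  exact ⟨⟨B, hB⟩, ⟨x, hx⟩, rfl⟩

/-- Comparisons after base change to a union of quasi-finite algebras. -/
theorem compN_indQF {X : Scheme.{u}} (h : X ⟶ Spec (CommRingCat.of R)) [QuasiCompact h] [QuasiSeparated h] {L : Set ℕ}
    {n : ℕ} (hh : UnitVanish h L n) (hP : IndQF R P) (F : EtCoh.Ab (Spec (CommRingCat.of R)))
    (hF : EtAcyc.IsLTorsion L F) :
    let τ := Spec.map (CommRingCat.ofHom (algebraMap R P))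
    (∀ q ≤ n, Function.Bijective (EtCore.Hpull (pullback.snd h τ) ((EtCoh.pull τ).obj F) q)) ∧
      Function.Injective (EtCore.Hpull (pullback.snd h τ) ((EtCoh.pull τ).obj F) (n + 1)) := by
  intro τ
  obtain ⟨hc₀⟩ := exists_isColimit_qfCocone hP
  haveI : CompactSpace ↥X := QuasiCompact.compactSpace_of_compactSpace h
  haveI : QuasiSeparatedSpace ↥X := quasiSeparatedSpace_of_quasiSeparated h
  let D : (QfIdx R P)ᵒᵖ ⥤ Scheme.{u} := (qfDiag (R := R) (P := P)).op ⋙ Scheme.Spec
  let c : Cone D := Scheme.Spec.mapCone (qfCocone (R := R) (P := P)).op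
  have hc : IsLimit c := isLimitOfPreserves Scheme.Spec hc₀.op
  let t : ∀ i, D.obj i ⟶ Spec (CommRingCat.of R) := fun i => Spec.map (CommRingCat.ofHom (algebraMap R i.unop.1))
  have ht : ∀ ⦃i j : (QfIdx R P)ᵒᵖ⦄ (a : i ⟶ j), D.map a ≫ t j = t i := fun i j a =>
    (Spec.map_comp _ _).symm.trans (congrArg Spec.map (CommRingCat.hom_ext (RingHom.ext fun _ => rfl)))
  have hτ : ∀ i, c.π.app i ≫ t i = τ := fun i =>
    (Spec.map_comp _ _).symm.trans (congrArg Spec.map (CommRingCat.hom_ext (RingHom.ext fun _ => rfl)))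
  haveI haff : ∀ i, IsAffine (D.obj i) := fun i => inferInstanceAs (IsAffine (Spec _))
  haveI hta : ∀ i, IsAffineHom (t i) := fun i => inferInstance
  let S₀ : Sys (QfIdx R P) :=
    { Xs := D
      aff := fun a b f => inferInstance
      qc := fun a => inferInstance
      qs := fun a => inferInstance
      c := c
      hc := hc }
  let S₁ : Sys (QfIdx R P) :=
    { Xs := SmoothBCLib.pbDiag D t ht h
      aff := fun a b f => by
        haveI : IsAffineHom (D.map f) := inferInstance
        exact MorphismProperty.of_isPullback (P := @IsAffineHom)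
          (show IsPullback ((SmoothBCLib.pbDiag D t ht h).map f) (pullback.snd h (t a)) (pullback.snd h (t b)) (D.map f) from
            IsPullback.of_right (h₁₂ := pullback.fst h (t b)) (v₁₃ := h) (h₂₂ := t b)
              (by simpa [ht f] using IsPullback.of_hasPullback h (t a)) (by simp) (IsPullback.of_hasPullback h (t b))).flip
          inferInstance
      qc := fun a => QuasiCompact.compactSpace_of_compactSpace (pullback.snd h (t a))
      qs := fun a => quasiSeparatedSpace_of_quasiSeparated (pullback.snd h (t a))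
      c := SmoothBCLib.pbCone D t ht h c τ hτ
      hc := SmoothBCLib.isLimitPbCone D t ht h c τ hτ hc }
  let O₀ : OverSys.Over S₀ (Spec (CommRingCat.of R)) :=
    { q := fun i => t (op i)
      g := τ
      hq := fun i j a => ht _
      hg := fun i => hτ _ }
  have key := fun q => stages_Hpull (S₁ := S₁) O₀ (pullback.snd h τ) (fun i => pullback.snd h (t (op i)))
    (fun i => pullback.lift_snd _ _ _) (fun i j a => pullback.lift_snd _ _ _) F q
  have hst : ∀ i : QfIdx R P, EtAcyc.CompN (pullback.snd h (t (op i))) L n := fun i => by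
    haveI := i.2.2
    haveI : Algebra.FiniteType R i.1 := (Subalgebra.fg_iff_finiteType i.1).1 i.2.1
    haveI : LocallyQuasiFinite (t (op i)) :=
      (HasRingHomProperty.Spec_iff (P := @LocallyQuasiFinite)).2 (show (algebraMap R i.1).QuasiFinite from RingHom.quasiFinite_algebraMap.2 inferInstance)
    haveI : LocallyOfFiniteType (t (op i)) :=
      (HasRingHomProperty.Spec_iff (P := @LocallyOfFiniteType)).2 (show (algebraMap R i.1).FiniteType from RingHom.finiteType_algebraMap.2 inferInstance)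
    exact (hh.qf (t (op i))).compN
  have hstF := fun i : QfIdx R P => hst i _ (AcycCompLib.isLTorsion_pull (t (op i)) hF)
  exact ⟨fun q hq => ⟨(key q).1 fun i => ((hstF i).1 q hq).1, (key q).2 fun i => ((hstF i).1 q hq).2⟩,
    (key (n + 1)).1 fun i => (hstF i).2⟩

end Groth.Agent.AcycFibLib
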