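import Groth.Agent.StrictLocLib.FlatBC

/-!
# Base change at a geometric point from one unit
-/

set_option autoImplicit false
set_option linter.unusedSectionVars false
set_option linter.style.haveILetI false
set_option backward.isDefEq.respectTransparency false
set_option backward.isDefEq.respectTransparency.types false
set_option maxHeartbeats 1000000

universe u

open CategoryTheory CategoryTheory.Limits AlgebraicGeometry Opposite IsLocalRing
open Groth.Agent.EtPtsLib Groth.Agent.StrictLocLib

noncomputable section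

namespace Groth.Agent.AcycFibLib

/-- Injectivity of the comparison along a square. -/
theorem injective_trans {X Y C : Scheme.{u}} {q : Y ⟶ X} {t : C ⟶ Y} {g : C ⟶ X} (hw : t ≫ q = g) (F : EtCoh.Ab X)
    (hu : Function.Injective
      (((EtCoh.pullPushAdj t).unit.app ((EtCoh.pull q).obj F)).hom.app (op (EtCoh.top Y)))) :
    Function.Injective (StrictLocLib.trans hw F) := by
  haveI := isIso_transAdj hw F
  have hb := ConcreteCategory.bijective_of_isIso ((((ObjectProperty.ι _).mapIso (asIso (transAdj hw F))).app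
    (op ((EtCoh.bc t).obj (EtCoh.top Y)))).hom ≫ ((EtCoh.pull g).obj F).obj.map (EtCore.bcTopIso t).inv.op)
  have h1 : (transHom hw F).hom.app (op (EtCoh.top Y)) =
      ((EtCoh.pullPushAdj t).unit.app ((EtCoh.pull q).obj F)).hom.app (op (EtCoh.top Y)) ≫
        (transAdj hw F).hom.app (op ((EtCoh.bc t).obj (EtCoh.top Y))) :=
    (congrArg (fun φ => φ.hom.app (op (EtCoh.top Y))) (unit_transAdj hw F)).symm
  intro a b hab
  refine hu (hb.1 ?_)
  have e : ∀ z, ((((ObjectProperty.ι _).mapIso (asIso (transAdj hw F))).app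
      (op ((EtCoh.bc t).obj (EtCoh.top Y)))).hom ≫ ((EtCoh.pull g).obj F).obj.map (EtCore.bcTopIso t).inv.op)
      (((EtCoh.pullPushAdj t).unit.app ((EtCoh.pull q).obj F)).hom.app (op (EtCoh.top Y)) z) =
      StrictLocLib.trans hw F z := fun z => by
    show _ = ((transHom hw F).hom.app (op (EtCoh.top Y)) ≫ _) z
    rw [h1]
    rfl
  rw [e a, e b]
  exact hab

section BC

variable {X S Y T : Scheme.{u}} (g : T ⟶ S) [QuasiCompact g] [QuasiSeparated g] (f : X ⟶ S) (h : Y ⟶ X)
  (e : Y ⟶ T) (hc : IsPullback e h g f)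
  {RS RX : Type u} [CommRing RS] [HenselianLocalRing RS] [IsSepClosed (ResidueField RS)]
  [CommRing RX] [HenselianLocalRing RX] [IsSepClosed (ResidueField RX)]
  (hS : Spec (CommRingCat.of RS) ⟶ S) (hX : Spec (CommRingCat.of RX) ⟶ X)
  (ψ : RS →+* RX) [IsLocalHom ψ] (hψ : hX ≫ f = Spec.map (CommRingCat.ofHom ψ) ≫ hS)
  (NS : NbhdSys hS) (NX : NbhdSys hX)
  {Ω : Type u} [Field Ω] [IsAlgClosed Ω] (ι : ResidueField RX →+* Ω)

include hc hψ NS NX in
/-- The base change map on stalks from units on the fibres over strict localizations. -/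
theorem bcStalk_of_unitTop (F : EtCoh.Ab T) (π : pullback h hX ⟶ pullback g hS)
    (hπ1 : π ≫ StrictLocLib.proj hS g = StrictLocLib.proj hX h ≫ e)
    (hπ2 : π ≫ pullback.snd g hS = pullback.snd h hX ≫ Spec.map (CommRingCat.ofHom ψ))
    (hu : Function.Injective (((EtCoh.pullPushAdj π).unit.app ((EtCoh.pull (StrictLocLib.proj hS g)).obj F)).hom.app
      (op (EtCoh.top (pullback g hS))))) :
    Function.Injective (bcStalk g f h e (Spec.map (CommRingCat.ofHom ι) ≫ pt hX) F
      (EtCoh.baseChange0 g f h e hc.w F)) ∧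
    (Function.Surjective (((EtCoh.pullPushAdj π).unit.app ((EtCoh.pull (StrictLocLib.proj hS g)).obj F)).hom.app
      (op (EtCoh.top (pullback g hS)))) →
      Function.Surjective (bcStalk g f h e (Spec.map (CommRingCat.ofHom ι) ≫ pt hX) F
        (EtCoh.baseChange0 g f h e hc.w F))) := by
  let η := Spec.map (CommRingCat.ofHom ι) ≫ pt hX
  let α := EtCoh.baseChange0 g f h e hc.w F
  haveI : QuasiCompact h := MorphismProperty.of_isPullback hc ‹QuasiCompact g›
  haveI : QuasiSeparated h := MorphismProperty.of_isPullback hc ‹QuasiSeparated g›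
  have eS := geomAbove_comp f hS hX ψ hψ ι
  let TS := pullback g hS
  let YX := pullback h hX
  let pX : YX ⟶ Y := proj hX h
  let toS := stalkTo (ι.comp (ResidueField.map ψ)) (pt hS) (η ≫ f) eS ((EtCoh.push g).obj F).obj
  let toX := stalkTo ι (pt hX) η rfl ((EtCoh.push h).obj ((EtCoh.pull e).obj F)).obj
  have hkey : ∀ z, ∃ w, bcStalk g f h e η F α (toS z) = toX w ∧
      adjTop (rfl : pX ≫ e = pX ≫ e) F ((compare hX h).app ((EtCoh.pull e).obj F) w) =
        trans hπ1 F ((compare hS g).app F z) := by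
    intro z
    obtain ⟨V, l, x, rfl⟩ := (Scheme.pointSmallEtale (pt hS)).toPresheafFiber_jointly_surjective z
    have hl : (Spec.map (CommRingCat.ofHom (ResidueField.map ψ)) ≫ liftHom (pt hS) l) ≫ V.hom = pt hX ≫ f := by
      rw [Category.assoc, liftHom_comp, pt, pt, Category.assoc, hψ]
      simp only [← Spec.map_comp_assoc]
      rfl
    let lV : (Scheme.pointSmallEtale (pt hX ≫ f)).fiber.obj V :=
      Over.homMk (Spec.map (CommRingCat.ofHom (ResidueField.map ψ)) ≫ liftHom (pt hS) l) hl
    let l' := liftBc f (pt hX) V lV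
    let y := ((EtCoh.pullPushAdj e).unit.app F).hom.app (op ((EtCoh.bc g).obj V)) x
    let y' : EtCoh.sect ((EtCoh.push h).obj ((EtCoh.pull e).obj F)) ((EtCoh.bc f).obj V) :=
      ((EtCoh.pull e).obj F).obj.map (kappa g f h e hc V).op y
    refine ⟨(Scheme.pointSmallEtale (pt hX)).toPresheafFiber ((EtCoh.bc f).obj V) l'
      ((EtCoh.push h).obj ((EtCoh.pull e).obj F)).obj y', ?_, ?_⟩
    · refine (congrArg (bcStalk g f h e η F α) (stalkTo_germ _ _ _ eS _ V l x)).trans ?_
      refine Eq.trans ?_ (stalkTo_germ ι (pt hX) η rfl _ _ l' y').symm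
      have hb := isBC_ab g f h e hc F V
      rw [Adjunction.homEquiv_unit] at hb
      refine (congrArg ((Scheme.pointSmallEtale η).presheafFiber.map α.hom)
        ((ConcreteCategory.comp_apply _ _ _).symm.trans (congrArg (fun m => (ConcreteCategory.hom m) x)
          (toPresheafFiber_unitStalk f η ((EtCoh.push g).obj F) V
            (fibTo (ι.comp (ResidueField.map ψ)) (pt hS) (η ≫ f) eS V l))))).trans ?_
      refine ((Scheme.pointSmallEtale η).toPresheafFiber_naturality_apply α.hom _ _ _).trans ?_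
      have hlift : liftBc f η V (fibTo (ι.comp (ResidueField.map ψ)) (pt hS) (η ≫ f) eS V l) =
          fibTo ι (pt hX) η rfl ((EtCoh.bc f).obj V) l' := by
        refine fiber_bc_ext f η ((liftHom_liftBc_fst f η V _).trans ?_)
        show Spec.map (CommRingCat.ofHom (ι.comp (ResidueField.map ψ))) ≫ liftHom (pt hS) l =
          (Spec.map (CommRingCat.ofHom ι) ≫ liftHom (pt hX) l') ≫ bcFst f V
        rw [Category.assoc, liftHom_liftBc_fst]
        show _ = Spec.map _ ≫ Spec.map _ ≫ _
        rw [← Spec.map_comp_assoc, ← CommRingCat.ofHom_comp]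
      rw [hlift]
      exact congrArg ((Scheme.pointSmallEtale η).toPresheafFiber ((EtCoh.bc f).obj V)
        (fibTo ι (pt hX) η rfl ((EtCoh.bc f).obj V) l')
        ((EtCoh.push h).obj ((EtCoh.pull e).obj F)).obj) congr($hb x)
    · let m := toBC hX h ((EtCoh.bc f).obj V) l'
      have wm : m ≫ ((EtCoh.bc h).obj ((EtCoh.bc f).obj V)).hom = pX := toBC_w hX h _ _
      refine (congrArg (adjTop (rfl : pX ≫ e = pX ≫ e) F)
        (((ConcreteCategory.comp_apply _ _ _).symm.trans
          (congrArg (fun k => (ConcreteCategory.hom k) y') (toPresheafFiber_compare hX h _ l' ((EtCoh.pull e).obj F)))).trans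
        ((ConcreteCategory.comp_apply _ _ _).symm.trans (congrArg (fun k => (ConcreteCategory.hom k) y)
          (restrSec_map (kappa g f h e hc V) m wm (m ≫ (kappa g f h e hc V).left)
            ((Category.assoc _ _ _).trans ((congrArg (m ≫ ·) (MorphismProperty.Over.w (kappa g f h e hc V))).trans wm))
            rfl ((EtCoh.pull e).obj F)))))).trans ?_
      refine (adjTop_unit (rfl : pX ≫ e = pX ≫ e) F _ _ x).trans ?_
      refine Eq.trans ?_ (congrArg (trans hπ1 F) ((ConcreteCategory.comp_apply _ _ _).symm.trans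
        (congrArg (fun k => (ConcreteCategory.hom k) x) (toPresheafFiber_compare hS g V l F)))).symm
      refine Eq.trans ?_ (trans_restrSec hπ1 F _ _ x).symm
      refine congrArg (fun k : F.obj.obj (op ((EtCoh.bc g).obj V)) ⟶ (gsecF _).obj ((EtCoh.pull (pX ≫ e)).obj F) =>
        (ConcreteCategory.hom k) x) (restrSec_congr ?_ _ _ F)
      have hlift : liftOf hX ((EtCoh.bc f).obj V) l' ≫ bcFst f V =
          Spec.map (CommRingCat.ofHom ψ) ≫ liftOf hS V l := by
        haveI : Etale V.hom := V.prop
        refine lift_unique V.hom ?_ ?_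
        · rw [Category.assoc, Category.assoc, liftOf_w, bcFst, pullback.condition, ← Category.assoc, ← hψ]
          exact congrArg (· ≫ f) (liftOf_w hX _ l')
        · rw [← Category.assoc, resPt_liftOf, liftHom_liftBc_fst, ← Category.assoc, resPt, ← Spec.map_comp]
          show Spec.map (CommRingCat.ofHom (ResidueField.map ψ)) ≫ liftHom (pt hS) l = _
          rw [← resPt_liftOf hS V l, ← Category.assoc, resPt, ← Spec.map_comp]
          rfl
      apply pullback.hom_ext
      · rw [Category.assoc, Category.assoc, Category.assoc, toBC_fst, ← Category.assoc π,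
          hπ2,
          kappa_fst, ← Category.assoc m,
          show m ≫ bcFst h ((EtCoh.bc f).obj V) = pullback.snd h hX ≫ liftOf hX _ l' from toBC_fst hX h _ _,
          Category.assoc, hlift, Category.assoc]
      · have hcd : bcFst e ((EtCoh.bc g).obj V) ≫ ((EtCoh.bc g).obj V).hom =
            ((EtCoh.bc e).obj ((EtCoh.bc g).obj V)).hom ≫ e := pullback.condition
        show ((m ≫ (kappa g f h e hc V).left) ≫ bcFst e _) ≫ ((EtCoh.bc g).obj V).hom = _
        rw [Category.assoc, hcd, ← Category.assoc, Category.assoc m]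
        refine (congrArg (· ≫ e) ((congrArg (m ≫ ·) (MorphismProperty.Over.w (kappa g f h e hc V))).trans wm)).trans ?_
        exact hπ1.symm.trans ((congrArg (π ≫ ·) (toBC_w hS g V l).symm).trans (Category.assoc _ _ _).symm)
  have hcS := bijective_compare hS g NS F
  have hcX := bijective_compare hX h NX ((EtCoh.pull e).obj F)
  have ht := injective_trans hπ1 F hu
  have ha := bijective_adjTop (rfl : pX ≫ e = pX ≫ e) F
  have hS' := bijective_stalkTo (ι.comp (ResidueField.map ψ)) (pt hS) (η ≫ f) eS ((EtCoh.push g).obj F).obj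
  have hX' := bijective_stalkTo ι (pt hX) η rfl ((EtCoh.push h).obj ((EtCoh.pull e).obj F)).obj
  refine ⟨fun a b hab => ?_, fun hus c => ?_⟩
  · obtain ⟨a, rfl⟩ := hS'.2 a
    obtain ⟨b, rfl⟩ := hS'.2 b
    obtain ⟨wa, ha₁, ha₂⟩ := hkey a
    obtain ⟨wb, hb₁, hb₂⟩ := hkey b
    have : wa = wb := hX'.1 (ha₁.symm.trans (hab.trans hb₁))
    subst this
    rw [hcS.1 (ht (ha₂.symm.trans hb₂))]
  · obtain ⟨w, rfl⟩ := hX'.2 c
    obtain ⟨y, hy⟩ := (bijective_trans hπ1 F ⟨hu, hus⟩).2 (adjTop (rfl : pX ≫ e = pX ≫ e) F ((compare hX h).app ((EtCoh.pull e).obj F) w))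
    obtain ⟨z, rfl⟩ := hcS.2 y
    obtain ⟨w', h₁, h₂⟩ := hkey z
    exact ⟨toS z, h₁.trans (congrArg toX (hcX.1 (ha.1 (h₂.trans hy))))⟩

end BC

/-- Base change along `f` from units on strict localizations. -/
theorem baseChange0_of_unitTop {X S Y T : Scheme.{u}} (g : T ⟶ S) [QuasiCompact g] [QuasiSeparated g]
    (f : X ⟶ S) (h : Y ⟶ X) (e : Y ⟶ T) (hc : IsPullback e h g f)
    (F : EtCoh.Ab T) (P : Prop)
    (hconn : ∀ (x : X) (RS : Type u) [CommRing RS] [IsLocalRing RS] [Algebra (S.presheaf.stalk (f.base x)) RS]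
      [IsLocalHom (algebraMap (S.presheaf.stalk (f.base x)) RS)]
      [Hensel.IsStrictHenselization (S.presheaf.stalk (f.base x)) RS]
      (RX : Type u) [CommRing RX] [IsLocalRing RX] [Algebra (X.presheaf.stalk x) RX]
      [IsLocalHom (algebraMap (X.presheaf.stalk x) RX)] [Hensel.IsStrictHenselization (X.presheaf.stalk x) RX]
      (ψ : RS →+* RX) [IsLocalHom ψ],
      ψ.comp (algebraMap (S.presheaf.stalk (f.base x)) RS) = (algebraMap (X.presheaf.stalk x) RX).comp (f.stalkMap x).hom →
      ∀ (π : pullback h (Hens2.specOf X x RX) ⟶ pullback g (Hens2.specOf S (f.base x) RS)),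
        π ≫ StrictLocLib.proj (Hens2.specOf S (f.base x) RS) g = StrictLocLib.proj (Hens2.specOf X x RX) h ≫ e →
        π ≫ pullback.snd g _ = pullback.snd h _ ≫ Spec.map (CommRingCat.ofHom ψ) →
        Function.Injective (((EtCoh.pullPushAdj π).unit.app
            ((EtCoh.pull (StrictLocLib.proj (Hens2.specOf S (f.base x) RS) g)).obj F)).hom.app
          (op (EtCoh.top (pullback g (Hens2.specOf S (f.base x) RS))))) ∧
        (P → Function.Surjective (((EtCoh.pullPushAdj π).unit.app
            ((EtCoh.pull (StrictLocLib.proj (Hens2.specOf S (f.base x) RS) g)).obj F)).hom.app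
          (op (EtCoh.top (pullback g (Hens2.specOf S (f.base x) RS))))))) :
    Mono (EtCoh.baseChange0 g f h e hc.w F) ∧ (P → IsIso (EtCoh.baseChange0 g f h e hc.w F)) := by
  suffices H : ∀ y : X, Function.Injective ((EtCoh.stalk (geomPtAlg y)).map (EtCoh.baseChange0 g f h e hc.w F)) ∧
      (P → Function.Surjective ((EtCoh.stalk (geomPtAlg y)).map (EtCoh.baseChange0 g f h e hc.w F))) by
    refine ⟨?_, fun hP => isIso_of_alg_ab _ fun y => ⟨(H y).1, (H y).2 hP⟩⟩
    haveI : Sheaf.IsLocallyInjective (EtCoh.baseChange0 g f h e hc.w F) :=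
      SitePts.isLocallyInjective (detectsAlg X) (EtCoh.baseChange0 g f h e hc.w F).hom fun x => (H x).1
    exact Sheaf.mono_of_isLocallyInjective _
  intro y
  let η := geomPtAlg y
  suffices hb : Function.Injective (bcStalk g f h e η F (EtCoh.baseChange0 g f h e hc.w F)) ∧
      (P → Function.Surjective (bcStalk g f h e η F (EtCoh.baseChange0 g f h e hc.w F))) by
    have hu := bijective_unitStalk f η ((EtCoh.push g).obj F)
    exact ⟨(Function.Injective.of_comp_iff' _ hu).1 hb.1, fun hP => Function.Surjective.of_comp (hb.2 hP)⟩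
  generalize η = η₀
  clear η
  haveI : IsLocalRing (CommRingCat.of (AlgebraicClosure (X.residueField y))) :=
    inferInstanceAs (IsLocalRing (AlgebraicClosure (X.residueField y)))
  obtain ⟨a, ha, haη⟩ := exists_stalkHom η₀ _ rfl
  let x := η₀ (closedPoint (CommRingCat.of (AlgebraicClosure (X.residueField y))))
  haveI := ha
  obtain ⟨RX, _, _, _, _, hRX⟩ := Henselization.exists_strictHenselization (X.presheaf.stalk x)
  obtain ⟨RS, _, _, _, _, hRS⟩ := Henselization.exists_strictHenselization (S.presheaf.stalk (f x))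
  haveI := hRX
  haveI := hRS
  haveI := Hensel.IsStrictHenselization.henselian (R := X.presheaf.stalk x) (S := RX)
  haveI := Hensel.IsStrictHenselization.henselian (R := S.presheaf.stalk (f x)) (S := RS)
  have hsepX := Hensel.IsStrictHenselization.isSepClosure (R := X.presheaf.stalk x) (S := RX)
  have hsepS := Hensel.IsStrictHenselization.isSepClosure (R := S.presheaf.stalk (f x)) (S := RS)
  haveI : IsSepClosed (ResidueField RX) := hsepX.sep_closed
  haveI : IsSepClosed (ResidueField RS) := hsepS.sep_closed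
  let α : ResidueField (X.presheaf.stalk x) →+* AlgebraicClosure (X.residueField y) := ResidueField.lift a.hom
  letI : Algebra (ResidueField (X.presheaf.stalk x)) (AlgebraicClosure (X.residueField y)) := α.toAlgebra
  haveI : Algebra.IsSeparable (ResidueField (X.presheaf.stalk x)) (ResidueField RX) := hsepX.separable
  let ι : ResidueField RX →ₐ[ResidueField (X.presheaf.stalk x)] AlgebraicClosure (X.residueField y) := IsSepClosed.lift
  let φ : S.presheaf.stalk (f x) →+* RX := (algebraMap (X.presheaf.stalk x) RX).comp (f.stalkMap x).hom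
  haveI : IsLocalHom φ := RingHom.isLocalHom_comp _ _
  letI : Algebra (ResidueField (S.presheaf.stalk (f x))) (ResidueField RX) := (ResidueField.map φ).toAlgebra
  haveI : Algebra.IsSeparable (ResidueField (S.presheaf.stalk (f x))) (ResidueField RS) := hsepS.separable
  let τ : ResidueField RS →ₐ[ResidueField (S.presheaf.stalk (f x))] ResidueField RX := IsSepClosed.lift
  obtain ⟨ψ, ⟨hψφ, hψr⟩, -⟩ := Hensel.IsStrictHenselization.universal (R := S.presheaf.stalk (f x)) (S := RS)
    RX φ τ.toRingHom (RingHom.ext fun z => τ.commutes z)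
  haveI : IsLocalHom ψ := ⟨fun r hr => by
    by_contra hn
    have h0 : residue RX (ψ r) = 0 := by
      rw [hψr, (residue_eq_zero_iff r).2 hn, map_zero]
    exact (residue_eq_zero_iff (ψ r)).1 h0 hr⟩
  have hψ : Hens2.specOf X x RX ≫ f = Spec.map (CommRingCat.ofHom ψ) ≫ Hens2.specOf S (f x) RS := by
    show (Spec.map _ ≫ X.fromSpecStalk x) ≫ f = Spec.map _ ≫ Spec.map _ ≫ S.fromSpecStalk (f x)
    rw [Category.assoc, ← Scheme.SpecMap_stalkMap_fromSpecStalk, ← Category.assoc, ← Category.assoc, ← Spec.map_comp,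
      ← Spec.map_comp]
    exact congrArg (fun m => Spec.map m ≫ S.fromSpecStalk (f x)) (CommRingCat.hom_ext hψφ.symm)
  obtain ⟨NS⟩ := exists_nbhdSys (Hens2.specOf S (f x) RS) (bijective_germVal S (f x) RS)
  obtain ⟨NX⟩ := exists_nbhdSys (Hens2.specOf X x RX) (bijective_germVal X x RX)
  have e' : Spec.map (CommRingCat.ofHom ι.toRingHom) ≫ pt (Hens2.specOf X x RX) = η₀ := by
    refine Eq.trans ?_ haη
    show Spec.map _ ≫ Spec.map _ ≫ Spec.map _ ≫ X.fromSpecStalk x = Spec.map a ≫ X.fromSpecStalk x
    rw [← Category.assoc, ← Category.assoc, ← Spec.map_comp, ← Spec.map_comp]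
    exact congrArg (fun m => Spec.map m ≫ X.fromSpecStalk x) (CommRingCat.hom_ext (RingHom.ext fun z =>
      ι.commutes (residue (X.presheaf.stalk x) z)))
  rw [← e']
  have sqX : (StrictLocLib.proj (Hens2.specOf X x RX) h ≫ e) ≫ g =
      (pullback.snd h (Hens2.specOf X x RX) ≫ Spec.map (CommRingCat.ofHom ψ)) ≫ Hens2.specOf S (f x) RS := by
    rw [Category.assoc, Category.assoc, hc.w, ← hψ]
    exact pullback.condition_assoc f
  let π : pullback h (Hens2.specOf X x RX) ⟶ pullback g (Hens2.specOf S (f x) RS) := pullback.lift _ _ sqX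
  obtain ⟨hi, hs⟩ := hconn x RS RX ψ hψφ π (pullback.lift_fst _ _ _) (pullback.lift_snd _ _ _)
  have hb := bcStalk_of_unitTop g f h e hc (Hens2.specOf S (f x) RS) (Hens2.specOf X x RX) ψ hψ NS NX ι.toRingHom F π
    (pullback.lift_fst _ _ _) (pullback.lift_snd _ _ _) hi
  exact ⟨hb.1, fun hP => hb.2 (hs hP)⟩

end Groth.Agent.AcycFibLib
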