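import Groth.Agent.CompBCLib.Via
import Groth.Agent.PBCLib.PullAssoc
import Groth.Agent.EtLimLib.OverSys
import Groth.Agent.S0646

/-!
# Classes pulled back over a base, and their continuity
-/

set_option autoImplicit false
set_option backward.isDefEq.respectTransparency false
set_option backward.isDefEq.respectTransparency.types false
set_option linter.style.haveILetI false
set_option linter.unusedSectionVars false
set_option maxHeartbeats 1000000

universe u

open CategoryTheory CategoryTheory.Limits AlgebraicGeometry Opposite Groth.Agent.EtLimLib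

attribute [local instance] Groth.Agent.S0101.result

noncomputable section

namespace Groth.Agent.AcycFibLib

variable {A B C D : Scheme.{u}}

/-- Relative pullbacks compose. -/
theorem HpullVia_comp (a : B ⟶ A) (b : C ⟶ B) (c : D ⟶ C) (n₁ : C ⟶ A) (w₁ : b ≫ a = n₁)
    (n₂ : D ⟶ B) (w₂ : c ≫ b = n₂) (m : D ⟶ A) (w₃ : n₂ ≫ a = m) (w₄ : c ≫ n₁ = m) (F : EtCoh.Ab A) (n : ℕ)
    (x : EtCoh.H B ((EtCoh.pull a).obj F) n) :
    EtCore.HpullVia c n₁ m w₄ F n (EtCore.HpullVia b a n₁ w₁ F n x) = EtCore.HpullVia n₂ a m w₃ F n x := by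
  have h2 : EtCore.HpullVia c b n₂ w₂ ((EtCoh.pull a).obj F) n (EtCore.Hpull b ((EtCoh.pull a).obj F) n x) =
      EtCore.Hpull n₂ ((EtCoh.pull a).obj F) n x := CompBCLib.HpullVia_Hpull b c n₂ w₂ _ n x
  show Sheaf.H.map (PBCLib.cp n₁ c m w₄ F).hom n (EtCore.Hpull c ((EtCoh.pull n₁).obj F) n
      (Sheaf.H.map (PBCLib.cp a b n₁ w₁ F).hom n (EtCore.Hpull b ((EtCoh.pull a).obj F) n x))) =
    Sheaf.H.map (PBCLib.cp a n₂ m w₃ F).hom n (EtCore.Hpull n₂ ((EtCoh.pull a).obj F) n x)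
  rw [← h2, CompBCLib.Hpull_map c]
  refine (CompBCLib.H_map_map _ _ n _).trans (Eq.trans ?_ (CompBCLib.H_map_map _ _ n _).symm)
  exact congrArg (fun k => Sheaf.H.map k n (EtCore.Hpull c _ n (EtCore.Hpull b ((EtCoh.pull a).obj F) n x)))
    (PBCLib.cp_assoc a b c n₁ w₁ n₂ w₂ m w₃ w₄ F)

theorem bijective_HpullVia_iff (f : C ⟶ B) (t : B ⟶ A) (m : C ⟶ A) (w : f ≫ t = m) (F : EtCoh.Ab A) (n : ℕ) :
    Function.Bijective (EtCore.HpullVia f t m w F n) ↔
      Function.Bijective (EtCore.Hpull f ((EtCoh.pull t).obj F) n) :=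
  Function.Bijective.of_comp_iff' (ConcreteCategory.bijective_of_isIso
    ((EtCoh.HF C n).map (((EtCore.pullComp f t).symm ≪≫ EtCore.pullCongr w).app F).hom)) _

theorem injective_HpullVia_iff (f : C ⟶ B) (t : B ⟶ A) (m : C ⟶ A) (w : f ≫ t = m) (F : EtCoh.Ab A) (n : ℕ) :
    Function.Injective (EtCore.HpullVia f t m w F n) ↔
      Function.Injective (EtCore.Hpull f ((EtCoh.pull t).obj F) n) :=
  Function.Injective.of_comp_iff (ConcreteCategory.bijective_of_isIso
    ((EtCoh.HF C n).map (((EtCore.pullComp f t).symm ≪≫ EtCore.pullCongr w).app F).hom)).1 _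

theorem surjective_HpullVia_iff (f : C ⟶ B) (t : B ⟶ A) (m : C ⟶ A) (w : f ≫ t = m) (F : EtCoh.Ab A) (n : ℕ) :
    Function.Surjective (EtCore.HpullVia f t m w F n) ↔
      Function.Surjective (EtCore.Hpull f ((EtCoh.pull t).obj F) n) :=
  Function.Surjective.of_comp_iff' (ConcreteCategory.bijective_of_isIso
    ((EtCoh.HF C n).map (((EtCore.pullComp f t).symm ≪≫ EtCore.pullCongr w).app F).hom)) _

variable {ι : Type u} [Preorder ι] [IsDirected ι (· ≤ ·)] [Nonempty ι]

/-- Continuity for sheaves pulled back from a base under the system. -/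
theorem over_continuity {S : Sys ι} (O : OverSys.Over S A) (F : EtCoh.Ab A) (p : ℕ) :
    (∀ ξ : EtCoh.H S.c.pt ((EtCoh.pull O.g).obj F) p, ∃ (i : ι) (x : EtCoh.H (S.X i) ((EtCoh.pull (O.q i)).obj F) p),
      EtCore.HpullVia (S.u i) (O.q i) O.g (O.hg i) F p x = ξ) ∧
    (∀ (i : ι) (x : EtCoh.H (S.X i) ((EtCoh.pull (O.q i)).obj F) p),
      EtCore.HpullVia (S.u i) (O.q i) O.g (O.hg i) F p x = 0 →
        ∃ (j : ι) (h : i ≤ j), EtCore.HpullVia (S.t h) (O.q i) (O.q j) (O.hq h) F p x = 0) := by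
  obtain ⟨hs, hi⟩ := continuity (OverSys.isColim_overCocone O F) p
  have e1 : ∀ i x, EtCore.HpullVia (S.u i) (O.q i) O.g (O.hg i) F p x =
      EtLim.HpullThen (S.u i) ((OverSys.overSys O F).F i)
        ((OverSys.overCocone O F).mate (OverSys.overSys O F) i) p x := fun i x => by
    rw [Groth.Agent.S0646.via_eq (O.q i) (S.u i) O.g (O.hg i) F _ (OverSys.comparePull_overCocone O F i)]
    rfl
  refine ⟨fun ξ => ?_, fun i x h0 => ?_⟩
  · obtain ⟨i, x, hx⟩ := hs ξ
    exact ⟨i, x, (e1 i x).trans hx⟩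
  · obtain ⟨j, h, e⟩ := hi i x ((e1 i x).symm.trans h0)
    refine ⟨j, h, ?_⟩
    rw [Groth.Agent.S0646.via_eq (O.q i) (S.t h) (O.q j) (O.hq h) F _ (OverSys.comparePull_overSys O F h)] at e
    exact e

end Groth.Agent.AcycFibLib
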